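import Groth.Agent.PtCount95.Normal
import Mathlib.RingTheory.KrullDimension.NonZeroDivisors
import Mathlib.RingTheory.MvPolynomial.Localization
import Mathlib.Algebra.Field.ULift
import Mathlib.FieldTheory.Finite.Basic
import Mathlib.Algebra.Ring.ULift
import Mathlib.Data.ZMod.Basic

/-!
Counting points of affine arithmetic schemes over finite fields.
-/

set_option autoImplicit false

universe u

open TensorProduct Polynomial

namespace Groth.Agent.PtCount95

variable {A B : Type u} [CommRing A] [CommRing B] [Algebra A B]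

theorem exists_count [Algebra.FiniteType A B] {s : ℕ} (g : MvPolynomial (Fin s) A →ₐ[A] B) (a : A)
    (hint : ∀ b : B, ∃ n : ℕ, g.toRingHom.IsIntegralElem (algebraMap A B a ^ n * b)) :
    ∃ c : ℕ, ∀ (F : Type u) [Field F] [Finite F], Subsingleton (A →+* F) →
      Finite {φ : B →+* F // φ (algebraMap A B a) ≠ 0} ∧
        Nat.card {φ : B →+* F // φ (algebraMap A B a) ≠ 0} ≤ c * Nat.card F ^ s := by
  classical
  obtain ⟨S, hS⟩ := ‹Algebra.FiniteType A B›.out
  choose n Q hQm hQ using fun x : {b // b ∈ S} => hint x.1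
  refine ⟨∏ x, (Q x).natDegree, fun F _ _ hsub => ?_⟩
  have : Fintype F := Fintype.ofFinite F
  by_cases hne : Nonempty {φ : B →+* F // φ (algebraMap A B a) ≠ 0}
  swap
  · have := not_nonempty_iff.mp hne
    exact ⟨inferInstance, by simp⟩
  obtain ⟨⟨φ₀, -⟩⟩ := hne
  let χ : A →+* F := φ₀.comp (algebraMap A B)
  let R : (Fin s → F) → {b // b ∈ S} → Finset F := fun t x =>
    (((Q x).map (MvPolynomial.eval₂Hom χ t)).roots.toFinset).image fun y => y / χ a ^ n x
  have hR : ∀ t x, (R t x).card ≤ (Q x).natDegree := fun t x =>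
    (Finset.card_image_le.trans (Multiset.toFinset_card_le _)).trans
      ((Polynomial.card_roots' _).trans Polynomial.natDegree_map_le)
  have hmem : ∀ φ : {φ : B →+* F // φ (algebraMap A B a) ≠ 0}, ∀ x,
      φ.1 x.1 ∈ R (fun i => φ.1 (g (MvPolynomial.X i))) x := by
    intro φ x
    have hχ : φ.1.comp (algebraMap A B) = χ := Subsingleton.elim _ _
    have hψ : MvPolynomial.eval₂Hom χ (fun i => φ.1 (g (MvPolynomial.X i))) = φ.1.comp g.toRingHom := by
      refine MvPolynomial.ringHom_ext (fun r => ?_) fun i => by simp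
      simp only [MvPolynomial.eval₂Hom_C, RingHom.comp_apply, AlgHom.toRingHom_eq_coe, RingHom.coe_coe]
      rw [← MvPolynomial.algebraMap_eq, AlgHom.commutes, ← hχ, RingHom.comp_apply]
    have ha : χ a ≠ 0 := fun h => φ.2 (by rw [← hχ] at h; exact h)
    refine Finset.mem_image.mpr ⟨φ.1 (algebraMap A B a ^ n x * x.1), ?_, ?_⟩
    · rw [Multiset.mem_toFinset, Polynomial.mem_roots ((hQm x).map _).ne_zero, Polynomial.IsRoot,
        Polynomial.eval_map, hψ, ← Polynomial.hom_eval₂, hQ x, map_zero]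
    · rw [map_mul, map_pow, ← RingHom.comp_apply, hχ, mul_div_cancel_left₀ _ (pow_ne_zero _ ha)]
  let Θ : {φ : B →+* F // φ (algebraMap A B a) ≠ 0} → Σ t : Fin s → F, (x : {b // b ∈ S}) → R t x :=
    fun φ => ⟨fun i => φ.1 (g (MvPolynomial.X i)), fun x => ⟨φ.1 x.1, hmem φ x⟩⟩
  have hΘ : Function.Injective Θ := by
    intro φ φ' h
    have hx : ∀ x ∈ S, φ.1 x = φ'.1 x := fun x hx =>
      congrArg (fun z : Σ t : Fin s → F, (x : {b // b ∈ S}) → R t x => ((z.2 ⟨x, hx⟩ : R z.1 ⟨x, hx⟩) : F)) h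
    refine Subtype.ext (RingHom.ext fun b => ?_)
    have hb : b ∈ Algebra.adjoin A (S : Set B) := hS ▸ trivial
    induction hb using Algebra.adjoin_induction with
    | mem x hx' => exact hx x hx'
    | algebraMap r => exact DFunLike.congr_fun (Subsingleton.elim (φ.1.comp (algebraMap A B)) (φ'.1.comp (algebraMap A B))) r
    | add x y _ _ hx hy => rw [map_add, map_add, hx, hy]
    | mul x y _ _ hx hy => rw [map_mul, map_mul, hx, hy]
  refine ⟨Finite.of_injective Θ hΘ, (Nat.card_le_card_of_injective Θ hΘ).trans ?_⟩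
  rw [Nat.card_sigma]
  refine (Finset.sum_le_card_nsmul _ _ (∏ x, (Q x).natDegree) fun t _ => ?_).trans (le_of_eq ?_)
  · rw [Nat.card_pi]
    exact Finset.prod_le_prod' fun x _ => by rw [Nat.card_eq_finsetCard]; exact hR t x
  · rw [smul_eq_mul, mul_comm, Finset.card_univ, Fintype.card_fun, Fintype.card_fin, Nat.card_eq_fintype_card]

variable [IsDomain A]

/-- Away from a nonzero element the number of points is bounded by the relative dimension. -/
theorem exists_count_bound [Algebra.FiniteType A B] :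
    ∃ (a : A) (c s : ℕ), a ≠ 0 ∧
      (c = 0 ∨ ringKrullDim (Localization.Away a) + (s : WithBot ℕ∞) ≤ ringKrullDim B) ∧
      ∀ (F : Type u) [Field F] [Finite F], Subsingleton (A →+* F) →
        Finite {φ : B →+* F // φ (algebraMap A B a) ≠ 0} ∧
        Nat.card {φ : B →+* F // φ (algebraMap A B a) ≠ 0} ≤ c * Nat.card F ^ s := by
  classical
  by_cases hz : ∃ a : A, a ≠ 0 ∧ algebraMap A B a = 0
  · obtain ⟨a, ha, h0⟩ := hz
    refine ⟨a, 0, 0, ha, Or.inl rfl, fun F _ _ _ => ?_⟩
    have : IsEmpty {φ : B →+* F // φ (algebraMap A B a) ≠ 0} := ⟨fun φ => φ.2 ((congrArg φ.1 h0).trans (map_zero _))⟩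
    exact ⟨inferInstance, by simp⟩
  obtain ⟨a, s, ha, g, hg, hint⟩ := exists_normalization A B hz
  obtain ⟨c, hc⟩ := exists_count g a hint
  refine ⟨a, c, s, ha, Or.inr ?_, hc⟩
  let Aa := Localization.Away a
  let Pa := MvPolynomial (Fin s) Aa
  let Ba := Localization.Away (algebraMap A B a)
  let χ : Aa →+* Ba := IsLocalization.Away.lift a (g := (algebraMap B Ba).comp (algebraMap A B))
    (IsLocalization.Away.algebraMap_isUnit (algebraMap A B a))
  let f : Pa →+* Ba := MvPolynomial.eval₂Hom χ fun i => algebraMap B Ba (g (MvPolynomial.X i))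
  have hf : ∀ q, f (MvPolynomial.map (algebraMap A Aa) q) = algebraMap B Ba (g q) := by
    intro q
    induction q using MvPolynomial.induction_on with
    | C r =>
      rw [MvPolynomial.map_C, ← MvPolynomial.algebraMap_eq (R := A), AlgHom.commutes]
      refine (MvPolynomial.eval₂Hom_C _ _ _).trans ?_
      exact IsLocalization.Away.lift_eq a (g := (algebraMap B Ba).comp (algebraMap A B)) _ r
    | add x y hx hy => simp only [map_add, hx, hy]
    | mul_X q i hq =>
      rw [map_mul, map_mul, hq, MvPolynomial.map_X, map_mul, map_mul]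
      congr 1
      exact MvPolynomial.eval₂Hom_X' _ _ _
  let _ : Algebra (MvPolynomial (Fin s) A) Pa := MvPolynomial.algebraMvPolynomial
  have hden : ∀ z : Pa, ∃ (q : MvPolynomial (Fin s) A) (n : ℕ),
      z * MvPolynomial.C (algebraMap A Aa a) ^ n = MvPolynomial.map (algebraMap A Aa) q := by
    intro z
    obtain ⟨⟨q, ⟨d, hd⟩⟩, h⟩ := IsLocalization.surj ((Submonoid.powers a).map (MvPolynomial.C (σ := Fin s))) z
    obtain ⟨_, ⟨n, rfl⟩, rfl⟩ := hd
    refine ⟨q, n, ?_⟩
    rw [← map_pow, ← map_pow, ← MvPolynomial.map_C (algebraMap A Aa) (a ^ n)]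
    exact h
  have hunit : IsUnit (algebraMap A Aa a) := IsLocalization.Away.algebraMap_isUnit a
  have hgBa : ∀ q, algebraMap B Ba (g q) = 0 → q = 0 := fun q h => by
    obtain ⟨⟨_, n, rfl⟩, hn⟩ := (IsLocalization.map_eq_zero_iff (Submonoid.powers (algebraMap A B a)) Ba _).mp h
    have : g (algebraMap A _ a ^ n * q) = 0 := by rw [map_mul, map_pow, AlgHom.commutes]; exact hn
    exact (mul_eq_zero.mp ((map_eq_zero_iff g hg).mp this)).resolve_left
      (pow_ne_zero _ ((map_ne_zero_iff _ (MvPolynomial.C_injective (Fin s) A)).mpr ha))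
  have hfinj : Function.Injective f := (injective_iff_map_eq_zero f).mpr fun z hz => by
    obtain ⟨q, n, hq⟩ := hden z
    have h0 : q = 0 := hgBa q (by rw [← hf, ← hq, map_mul, hz, zero_mul])
    rw [h0, map_zero] at hq
    exact (IsUnit.mul_left_eq_zero ((hunit.map MvPolynomial.C).pow n)).mp hq
  let _ : Algebra Pa Ba := f.toAlgebra
  have : Algebra.IsIntegral Pa Ba := ⟨fun z => by
    obtain ⟨⟨b, ⟨_, n, rfl⟩⟩, hb⟩ := IsLocalization.surj (Submonoid.powers (algebraMap A B a)) z
    obtain ⟨m, Q, hQ, hQ0⟩ := hint b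
    have h1 : IsIntegral Pa (algebraMap B Ba (algebraMap A B a ^ m * b)) := by
      refine ⟨Q.map (MvPolynomial.map (algebraMap A Aa)), hQ.map _, ?_⟩
      have e : (algebraMap Pa Ba).comp (MvPolynomial.map (algebraMap A Aa)) =
          (algebraMap B Ba).comp g.toRingHom := RingHom.ext hf
      rw [Polynomial.eval₂_map, e, ← Polynomial.hom_eval₂, hQ0, map_zero]
    obtain ⟨w, hw⟩ : ∃ w : Pa, algebraMap Pa Ba w * algebraMap B Ba (algebraMap A B a) ^ (n + m) = 1 := by
      obtain ⟨v, hv⟩ := ((hunit.map (MvPolynomial.C (σ := Fin s))).pow (n + m)).exists_left_inv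
      refine ⟨v, ?_⟩
      have e := congrArg f hv
      rwa [map_mul, map_pow, ← MvPolynomial.map_C, hf, ← MvPolynomial.algebraMap_eq, AlgHom.commutes,
        map_one] at e
    have e : z = algebraMap Pa Ba w * algebraMap B Ba (algebraMap A B a ^ m * b) := by
      simp only [map_pow, map_mul] at hb ⊢
      linear_combination (-z) * hw + (algebraMap Pa Ba w * algebraMap B Ba (algebraMap A B a) ^ m) * hb
    rw [e]
    exact isIntegral_algebraMap.mul h1⟩
  have hdim : ringKrullDim Ba = ringKrullDim Pa := by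
    refine ConsProp93.ringKrullDim_eq_of_integral_surjective Pa Ba fun q => ?_
    obtain ⟨Q, -, hQ, hQq⟩ := Ideal.exists_ideal_over_prime_of_isIntegral (S := Ba) q.asIdeal ⊥ (by
      rw [← RingHom.ker_eq_comap_bot, show algebraMap Pa Ba = f from rfl,
        (RingHom.injective_iff_ker_eq_bot _).mp hfinj]; exact bot_le)
    exact ⟨⟨Q, hQ⟩, PrimeSpectrum.ext hQq⟩
  calc ringKrullDim Aa + (s : WithBot ℕ∞) = ringKrullDim Aa + (Nat.card (Fin s) : WithBot ℕ∞) := by rw [Nat.card_fin]
    _ ≤ ringKrullDim Pa := ringKrullDim_add_natCard_le_ringKrullDim_mvPolynomial _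
    _ = ringKrullDim Ba := hdim.symm
    _ ≤ ringKrullDim B := Order.krullDim_le_of_strictMono (PrimeSpectrum.comap (algebraMap B Ba))
        (Monotone.strictMono_of_injective (fun _ _ h => Ideal.comap_mono h)
          (PrimeSpectrum.localization_comap_injective Ba (Submonoid.powers (algebraMap A B a))))

/-- The base ring. -/
def Z0 : Type u := ULift.{u} ℤ

noncomputable instance : CommRing Z0.{u} := inferInstanceAs (CommRing (ULift.{u} ℤ))

/-- The base ring is the ring of integers. -/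
def toZ0 : ℤ ≃+* Z0.{u} := (ULift.ringEquiv (R := ℤ)).symm

omit [IsDomain A] in
instance : IsDomain Z0.{u} := MulEquiv.isDomain ℤ toZ0.{u}.symm.toMulEquiv

omit [IsDomain A] in
theorem subsingleton_Z0_hom (F : Type u) [CommRing F] : Subsingleton (Z0.{u} →+* F) :=
  ⟨fun f g => by
    refine RingHom.ext fun x => ?_
    have h : f.comp toZ0.{u}.toRingHom = g.comp toZ0.{u}.toRingHom :=
      Subsingleton.elim _ _
    exact DFunLike.congr_fun h x.down⟩

variable {B : Type u} [CommRing B] [Algebra Z0.{u} B] [Algebra.FiniteType Z0.{u} B]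

theorem hom_apply_eq_cast {F : Type u} [CommRing F] (φ : B →+* F) (a : Z0.{u}) :
    φ (algebraMap Z0 B a) = (a.down : F) := by
  have := subsingleton_Z0_hom.{u} F
  exact DFunLike.congr_fun (Subsingleton.elim (φ.comp (algebraMap Z0 B))
    ((Int.castRingHom F).comp toZ0.{u}.symm.toRingHom)) a

/-- The prime field. -/
def K0 (p : ℕ) : Type u := ULift.{u} (ZMod p)

noncomputable instance (p : ℕ) [Fact p.Prime] : Field (K0.{u} p) := inferInstanceAs (Field (ULift.{u} (ZMod p)))

/-- The prime field as an integer algebra map. -/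
def toK0 (p : ℕ) [Fact p.Prime] : ZMod p ≃+* K0.{u} p := (ULift.ringEquiv (R := ZMod p)).symm

theorem exists_bound_prime {r : ℕ} (hr : ringKrullDim B ≤ r) (p : ℕ) [Fact p.Prime] :
    ∃ c : ℕ, ∀ (F : Type u) [Field F] [Finite F] [CharP F p], Finite (B →+* F) ∧ Nat.card (B →+* F) ≤ c * Nat.card F ^ r := by
  let χ : Z0.{u} →+* (K0.{u} p) := (toK0.{u} p).toRingHom.comp
    ((Int.castRingHom (ZMod p)).comp toZ0.{u}.symm.toRingHom)
  have hχ : Function.Surjective χ := fun x => by
    obtain ⟨n, hn⟩ := ZMod.intCast_surjective x.down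
    exact ⟨⟨n⟩, ULift.ext _ _ hn⟩
  let _ : Algebra Z0.{u} (K0.{u} p) := χ.toAlgebra
  have hsur : Function.Surjective (Algebra.TensorProduct.includeRight : B →ₐ[Z0.{u}] (K0.{u} p ⊗[Z0.{u}] B)) := by
    intro z
    induction z using TensorProduct.induction_on with
    | zero => exact ⟨0, map_zero _⟩
    | tmul x b =>
      obtain ⟨n, rfl⟩ := hχ x
      refine ⟨n • b, ?_⟩
      change (1 : (K0.{u} p)) ⊗ₜ (n • b) = _
      rw [← TensorProduct.smul_tmul, Algebra.smul_def, mul_one]
      rfl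
    | add x y hx hy =>
      obtain ⟨a, rfl⟩ := hx
      obtain ⟨b, rfl⟩ := hy
      exact ⟨a + b, map_add _ _ _⟩
  obtain ⟨a, c, s, ha, hcs, hc⟩ := exists_count_bound (A := (K0.{u} p)) (B := (K0.{u} p ⊗[Z0.{u}] B))
  have key : c = 0 ∨ s ≤ r := hcs.imp_right fun h => by
    have h0 : (0 : WithBot ℕ∞) ≤ ringKrullDim (Localization.Away a) := by
      have : Nontrivial (Localization.Away a) :=
        (IsLocalization.injective _ (powers_le_nonZeroDivisors_of_noZeroDivisors ha)).nontrivial
      exact ringKrullDim_nonneg_of_nontrivial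
    have h' : (s : WithBot ℕ∞) ≤ (r : WithBot ℕ∞) :=
      ((le_add_of_nonneg_left h0).trans h).trans ((ringKrullDim_le_of_surjective _ hsur).trans hr)
    exact_mod_cast h'
  refine ⟨c, fun F _ _ _ => ?_⟩
  let ι : (K0.{u} p) →+* F := (ZMod.castHom (dvd_refl p) F).comp (toK0.{u} p).symm.toRingHom
  let ext : (B →+* F) → {φ : (K0.{u} p ⊗[Z0.{u}] B) →+* F // φ (algebraMap (K0.{u} p) (K0.{u} p ⊗[Z0.{u}] B) a) ≠ 0} := fun φ => by
    let _ : Algebra Z0.{u} F := (φ.comp (algebraMap Z0 B)).toAlgebra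
    have := subsingleton_Z0_hom.{u} F
    let φ' : (K0.{u} p ⊗[Z0.{u}] B) →ₐ[Z0.{u}] F := Algebra.TensorProduct.lift
      { toRingHom := ι, commutes' := fun r => DFunLike.congr_fun (Subsingleton.elim (ι.comp χ) (algebraMap Z0 F)) r }
      { toRingHom := φ, commutes' := fun r => rfl } fun _ _ => Commute.all _ _
    exact ⟨φ'.toRingHom, fun h => by
      have := (φ'.toRingHom.comp (algebraMap (K0.{u} p) (K0.{u} p ⊗[Z0.{u}] B))).injective (a₁ := a) (a₂ := 0) (by simpa using h)
      exact ha this⟩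
  have hext : Function.Injective ext := fun φ φ' h => RingHom.ext fun b => by
    have := congrArg (fun z : {φ : (K0.{u} p ⊗[Z0.{u}] B) →+* F // φ (algebraMap (K0.{u} p) (K0.{u} p ⊗[Z0.{u}] B) a) ≠ 0} => z.1 ((1 : (K0.{u} p)) ⊗ₜ b)) h
    simpa [ext] using this
  have hsubk : Subsingleton ((K0.{u} p) →+* F) := ⟨fun f g => RingHom.ext fun x => by
    obtain ⟨n, rfl⟩ := hχ x
    have := subsingleton_Z0_hom.{u} F
    exact DFunLike.congr_fun (Subsingleton.elim (f.comp χ) (g.comp χ)) n⟩
  have := (hc F hsubk).1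
  refine ⟨Finite.of_injective ext hext, (Nat.card_le_card_of_injective ext hext).trans ((hc F hsubk).2.trans ?_)⟩
  rcases key with rfl | h
  · simp
  · exact Nat.mul_le_mul_left c (Nat.pow_le_pow_right Nat.card_pos h)

theorem exists_bound_large {r : ℕ} (hr : ringKrullDim B ≤ r) :
    ∃ c p₀ : ℕ, ∀ (p : ℕ) (F : Type u) [Field F] [Finite F] [CharP F p], p₀ ≤ p →
      p.Prime → Nat.card (B →+* F) = 0 ∨ (1 ≤ r ∧ Nat.card (B →+* F) ≤ c * Nat.card F ^ (r - 1)) := by
  obtain ⟨a, c, s, ha, hcs, hc⟩ := exists_count_bound (A := Z0.{u}) (B := B)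
  have key : c = 0 ∨ s + 1 ≤ r := hcs.imp_right fun h => by
    obtain ⟨ℓ, hℓ, hℓp⟩ := Nat.exists_infinite_primes (a.down.natAbs + 1)
    have h1 : (1 : WithBot ℕ∞) ≤ ringKrullDim (Localization.Away a) := by
      have hle := powers_le_nonZeroDivisors_of_noZeroDivisors (M₀ := Z0.{u}) ha
      have : IsDomain (Localization.Away a) := IsLocalization.isDomain_localization hle
      have hℓu : ¬ IsUnit (algebraMap Z0.{u} (Localization.Away a) (ℓ : Z0.{u})) := by
        intro hu
        have hnz : (⟨(ℓ : ℤ)⟩ : Z0.{u}) = (ℓ : Z0.{u}) := rfl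
        let _ : Fact ℓ.Prime := ⟨hℓp⟩
        let π : Z0.{u} →+* ZMod ℓ := (Int.castRingHom _).comp toZ0.{u}.symm.toRingHom
        have hπa : IsUnit (π a) := isUnit_iff_ne_zero.mpr fun h => by
          have hd : (ℓ : ℤ) ∣ a.down := (ZMod.intCast_zmod_eq_zero_iff_dvd _ _).mp h
          have := Nat.le_of_dvd (Int.natAbs_pos.mpr fun e => ha (ULift.ext _ _ e)) (Int.natCast_dvd.mp hd)
          omega
        have hu' := hu.map (IsLocalization.Away.lift a hπa)
        rw [IsLocalization.Away.lift_eq, map_natCast, ZMod.natCast_self] at hu'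
        exact not_isUnit_zero hu'
      obtain ⟨M, hM, hMm⟩ := exists_max_ideal_of_mem_nonunits (a := algebraMap Z0.{u} (Localization.Away a) (ℓ : Z0.{u})) hℓu
      rw [ringKrullDim, Order.one_le_krullDim_iff]
      refine ⟨⟨⊥, Ideal.isPrime_bot⟩, ⟨M, hM.isPrime⟩, (PrimeSpectrum.asIdeal_lt_asIdeal _ _).mp (bot_lt_iff_ne_bot.mpr fun e => ?_)⟩
      change M = ⊥ at e
      rw [e, Ideal.mem_bot, map_eq_zero_iff _ (IsLocalization.injective _ hle)] at hMm
      exact hℓp.ne_zero (by simpa using congrArg toZ0.{u}.symm hMm)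
    have h' : ((s + 1 : ℕ) : WithBot ℕ∞) ≤ (r : WithBot ℕ∞) := by
      push_cast
      rw [add_comm]
      exact ((add_le_add_left h1 _).trans h).trans hr
    exact_mod_cast h'
  refine ⟨c, a.down.natAbs + 1, fun p F _ _ _ hp hpp => ?_⟩
  let e : (B →+* F) → {φ : B →+* F // φ (algebraMap Z0 B a) ≠ 0} := fun φ => ⟨φ, fun h => by
    rw [hom_apply_eq_cast, CharP.intCast_eq_zero_iff F p] at h
    have := Nat.le_of_dvd (Int.natAbs_pos.mpr fun e => ha (ULift.ext _ _ e)) (Int.natCast_dvd.mp h)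
    omega⟩
  obtain ⟨_, hc'⟩ := hc F (subsingleton_Z0_hom.{u} F)
  have := (Nat.card_le_card_of_injective e fun _ _ h => congrArg Subtype.val h).trans hc'
  rcases key with rfl | h
  · exact Or.inl (by simpa using this)
  · exact Or.inr ⟨by omega, this.trans (Nat.mul_le_mul_left c (Nat.pow_le_pow_right Nat.card_pos (by omega)))⟩

end Groth.Agent.PtCount95
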